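import Groth.Agent.Sga4h.H929.NSplit
import Groth.Agent.S0127
import Groth.Agent.S0131
import Groth.Agent.S0136

/-!
# `N_p` preserves constructible sheaves (`p` finite étale)
-/

set_option autoImplicit false
universe u

open CategoryTheory CategoryTheory.Limits AlgebraicGeometry Opposite

namespace Groth.Agent.Sga4h.H182.NCons

open Groth.Agent.Sga4h.H929.NDef

variable {X Y : Scheme.{u}}

theorem cons_N (p : Y ⟶ X) [IsFinite p] [Etale p] {n : ℕ} (hn : 0 < n) {F : EtCoh.Ab X}
    (hF : EtCoh.KilledBy n F) (hc : EtPBC.IsConstructible F) :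
    EtPBC.IsConstructible ((N p).obj F) := by
  have h1 : EtPBC.IsConstructible ((EtCoh.push p).obj ((EtCoh.pull p).obj F)) :=
    Groth.Agent.S0136.result p _ (Groth.Agent.S0127.result p F hc)
  exact (Groth.Agent.S0131.result ((EtCoh.pullPushAdj p).unit.app F) n hn hF
    (H929.NSplit.killedBy_pushpull hF) hc h1).2

end Groth.Agent.Sga4h.H182.NCons
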