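import Groth.Agent.Sga4h.H182.Step
import Groth.Agent.Sga4h.H929.F0Alg
import Groth.Agent.Sga4h.H929.CommLib
import Groth.Agent.Sga4h.H929.Hyp
import Groth.Agent.Etbase.StalkPull
import Groth.Agent.EtpbcB.GeomPointIndep
import Groth.Agent.Etrest.ConsClass
import Mathlib.AlgebraicGeometry.Noetherian

/-!
# Vanishing on lines

`R` any commutative ring with `p = 0`, `N` invertible in `R`, `u` a unit of `R`, `F` a constructible
sheaf on `Spec R` killed by `N`: `R^i pr_! (N_{u X} (pr^* F)) = 0` for all `i`, all compactifications.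
-/

set_option autoImplicit false
universe u

open CategoryTheory CategoryTheory.Limits AlgebraicGeometry Opposite Polynomial

namespace Groth.Agent.Sga4h.H182.VanLine

open Groth.Agent.Sga4h.H929 Groth.Agent.Sga4h.H929.NDef Groth.Agent.Sga4h.H182.AbRs
  Groth.Agent.Sga4h.H182.Geo Groth.Agent.Sga4h.H182.Step Groth.Agent.EtpbcB
  Groth.Agent.Sga4h.H929.F0Alg

section cover

variable {R : Type u} [CommRing R] (q : ℕ) (u : Rˣ)

/-- the covering is a line -/
noncomputable abbrev lam : Spec (CommRingCat.of R[X]) ⟶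
    Spec (CommRingCat.of (LangSh.ASAlg R[X] q (C (u : R) * X))) :=
  Spec.map (CommRingCat.ofHom (lineHom q u))

instance isIso_lam : IsIso (lam q u) := by
  refine ⟨Spec.map (CommRingCat.ofHom (lineInv q u)), ?_, ?_⟩
  · rw [← Spec.map_comp, ← CommRingCat.ofHom_comp, lineHom_comp_inv]
    exact Spec.map_id _
  · rw [← Spec.map_comp, ← CommRingCat.ofHom_comp, lineInv_comp_hom]
    exact Spec.map_id _

/-- `X ↦ u⁻¹ (X^q - X)` -/
noncomputable abbrev bet : Spec (CommRingCat.of R[X]) ⟶ Spec (CommRingCat.of R[X]) :=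
  Spec.map (CommRingCat.ofHom (lineBase q u))

theorem lam_asc : lam q u ≫ asc q (C (u : R) * X) = bet q u := by
  change Spec.map _ ≫ Spec.map _ = Spec.map _
  rw [← Spec.map_comp, ← CommRingCat.ofHom_comp, lineHom_algebraMap]

theorem bet_pr : bet q u ≫ pr R = pr R := by
  rw [← Spec.map_comp, ← CommRingCat.ofHom_comp]
  congr 2
  ext a
  simp [lineBase_C]

/-- `asc_* asc^* ≅ bet_* bet^*` -/
theorem nonempty_cover (E : EtCoh.Ab (Spec (CommRingCat.of R[X]))) :
    Nonempty ((EtCoh.push (asc q (C (u : R) * X))).obj ((EtCoh.pull (asc q (C (u : R) * X))).obj E) ≅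
      (EtCoh.push (bet q u)).obj ((EtCoh.pull (bet q u)).obj E)) :=
  CommLib.nonempty_pp (lam q u) _ _ (lam_asc q u) E

/-- invariance: `R^i pr_! (asc_* asc^* pr^* F) ≅ R^i pr_! (pr^* F)` -/
theorem nonempty_inv (hq : 2 ≤ q) {N : ℕ} (hN : 0 < N) {F : EtCoh.Ab (Spec (CommRingCat.of R))}
    (hF : EtCoh.KilledBy N F) {P : Scheme.{u}} (J : Spec (CommRingCat.of R[X]) ⟶ P)
    [IsOpenImmersion J] (f : P ⟶ Spec (CommRingCat.of R)) [IsProper f] (w : J ≫ f = pr R) (i : ℕ) :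
    Nonempty ((EtCoh.Rpush f i).obj ((EtShriek.extZero J).obj
      ((EtCoh.push (asc q (C (u : R) * X))).obj ((EtCoh.pull (asc q (C (u : R) * X))).obj
        ((EtCoh.pull (pr R)).obj F)))) ≅
      (EtCoh.Rpush f i).obj ((EtShriek.extZero J).obj ((EtCoh.pull (pr R)).obj F))) := by
  have hF1 := TorsionBasic.killedBy_map (EtCoh.pull (pr R)) N _ hF
  have i1 : IsFinite (asc q (C (u : R) * X)) := H582.ASCov.isFinite_cov q _ hq
  have i2 : IsFinite (bet q u) := by
    rw [← lam_asc]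
    infer_instance
  have h1 : RsIs (pr R) ((EtCoh.pull (pr R)).obj F) i
      ((EtCoh.Rpush f i).obj ((EtShriek.extZero J).obj ((EtCoh.pull (pr R)).obj F))) :=
    RsIs.of_one hN hF1 J f w ⟨Iso.refl _⟩
  have h2 : RsIs (bet q u ≫ pr R) ((EtCoh.pull (bet q u)).obj ((EtCoh.pull (pr R)).obj F)) i
      ((EtCoh.Rpush f i).obj ((EtShriek.extZero J).obj ((EtCoh.pull (pr R)).obj F))) := by
    rw [bet_pr]
    exact h1.congr (CommLib.pullPull (bet q u) (pr R) (pr R) (bet_pr q u) F).symm (Iso.refl _)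
  have h3 := RsIs.finite (bet q u) (pr R) hN (TorsionBasic.killedBy_map (EtCoh.pull (bet q u)) N _ hF1) h2
  obtain ⟨e⟩ := nonempty_cover q u ((EtCoh.pull (pr R)).obj F)
  exact (h3.congr e.symm (Iso.refl _)).out J f w

end cover

section field

variable {p e : ℕ} [hp : Fact p.Prime]

/-- the case of a separably closed field -/
theorem field_case (hFC : Hyp.FinCons.{u}) {Ω : Type u} [Field Ω] [IsSepClosed Ω] (hpΩ : (p : Ω) = 0)
    (he : 1 ≤ e) {N : ℕ} (hN : (N : Ω) ≠ 0) (u : Ωˣ) {F : EtCoh.Ab (Spec (CommRingCat.of Ω))}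
    (hc : EtPBC.IsConstructible F) (hF : EtCoh.KilledBy N F) (i : ℕ) :
    RsZero (pr Ω) ((asN (p ^ e) (C (u : Ω) * X)).obj ((EtCoh.pull (pr Ω)).obj F)) i := by
  have hN0 : 0 < N := Nat.pos_of_ne_zero (by rintro rfl; exact hN (by simp))
  have hq : 2 ≤ p ^ e := by
    calc 2 ≤ p := hp.out.two_le
      _ = p ^ 1 := (pow_one p).symm
      _ ≤ p ^ e := Nat.pow_le_pow_right hp.out.pos he
  have hqX : ((p ^ e : ℕ) : (Polynomial Ω)) = 0 := by
    rw [Nat.cast_pow, ← map_natCast (C : Ω →+* (Polynomial Ω)), hpΩ, map_zero, zero_pow (by omega)]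
  have hcop : (p ^ e).Coprime N := by
    apply Nat.Coprime.pow_left
    rw [Nat.Prime.coprime_iff_not_dvd hp.out]
    rintro ⟨m, rfl⟩
    exact hN (by rw [Nat.cast_mul, hpΩ, zero_mul])
  have fe := ASC.fe_asc (C (u : Ω) * X) hq hqX
  obtain ⟨P, J, f, hJ, hJq, hf, w⟩ := Groth.Agent.S0384.result (pr Ω)
  have hF1 := TorsionBasic.killedBy_map (EtCoh.pull (pr Ω)) N _ hF
  have hc1 : EtPBC.IsConstructible ((EtCoh.pull (pr Ω)).obj F) := S0127.result (pr Ω) F hc
  refine RsZero.of_one hN0 (NSplit.killedBy_N hF1) J f w ?_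
  have hP1 : CompactSpace P := QuasiCompact.compactSpace_of_compactSpace f
  have hP2 : QuasiSeparatedSpace P := quasiSeparatedSpace_of_quasiSeparated f
  refine fe.isZero_N hcop hF1 (EtShriek.extZero J ⋙ EtCoh.Rpush f i) (fun z => ?_)
    (nonempty_inv (p ^ e) u hq hN0 hF J f w i)
  obtain ⟨Ω', i1, i2, ξ, hξ⟩ := Etcore.Stalks.exists_geom z
  refine ⟨Ω', i1, i2, ξ, hξ, ?_⟩
  refine GeomPointIndep.finite_stalk_of_constructible ξ _ ?_
  exact hFC (𝟙 _) f N hN _ (Etrest.ConsClass.isConstructible_extZero J _ hc1)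
    (TorsionBasic.killedBy_map (EtShriek.extZero J) N _ hF1) i

end field

section general

variable {p e : ℕ} [hp : Fact p.Prime]

/-- A sheaf is zero if its inverse images to all geometric points are zero. -/
theorem isZero_of_geom {S : Scheme.{u}} (G : EtCoh.Ab S)
    (h : ∀ (Ω : Type u) [Field Ω] [IsSepClosed Ω] (ξ : Spec (CommRingCat.of Ω) ⟶ S),
      IsZero ((EtCoh.pull ξ).obj G)) : IsZero G := by
  refine Etcore.Stalks.isZero_of_stalks G fun z => ?_
  obtain ⟨Ω, i1, i2, ξ, hξ⟩ := Etcore.Stalks.exists_geom z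
  refine ⟨Ω, i1, i2, ξ, hξ, ?_⟩
  have h1 : IsZero ((EtCoh.stalk (𝟙 (Spec (CommRingCat.of Ω)))).obj ((EtCoh.pull ξ).obj G)) :=
    Functor.map_isZero _ (h Ω ξ)
  have h2 := h1.of_iso ((Groth.Agent.Etbase.StalkPull.stalkPullIso ξ (𝟙 _)).app G)
  rwa [Category.id_comp] at h2

variable {R : Type u} [CommRing R] (hpR : (p : R) = 0) (he : 1 ≤ e) {N : ℕ} (hN : IsUnit (N : R)) (u : Rˣ)

include hpR he hN in
/-- `R^i pr_! (N_{u X} (pr^* F)) = 0`. -/
theorem main (hFC : Hyp.FinCons.{u}) {F : EtCoh.Ab (Spec (CommRingCat.of R))}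
    (hc : EtPBC.IsConstructible F) (hF : EtCoh.KilledBy N F) (i : ℕ) :
    RsZero (pr R) ((asN (p ^ e) (C (u : R) * X)).obj ((EtCoh.pull (pr R)).obj F)) i := by
  refine ⟨fun {P} J _ f _ w => ?_⟩
  refine isZero_of_geom _ fun Ω _ _ ξ => ?_
  obtain ⟨φ, rfl⟩ := Spec.map_surjective ξ
  have hpΩ : (p : Ω) = 0 := by
    have h := congrArg φ.hom hpR
    rwa [map_natCast, map_zero] at h
  have hNΩ : (N : Ω) ≠ 0 := by
    have h := hN.map φ.hom
    rw [map_natCast] at h
    exact h.ne_zero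
  have hN0 : 0 < N := Nat.pos_of_ne_zero (by rintro rfl; exact hNΩ (by simp))
  have hq : 2 ≤ p ^ e := by
    calc 2 ≤ p := hp.out.two_le
      _ = p ^ 1 := (pow_one p).symm
      _ ≤ p ^ e := Nat.pow_le_pow_right hp.out.pos he
  have hF1 := TorsionBasic.killedBy_map (EtCoh.pull (pr R)) N _ hF
  have hF2 : EtCoh.KilledBy N ((asN (p ^ e) (C (u : R) * X)).obj ((EtCoh.pull (pr R)).obj F)) :=
    NSplit.killedBy_N hF1
  have h1 := RsIs.of_one hN0 hF2 J f w (q := i) ⟨Iso.refl _⟩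
  have h2 := RsIs.baseChange hN0 hF2 (Etdl.H161.PolySquare.isPullback_line φ.hom) h1
  have h3 := field_case hFC hpΩ he hNΩ (Units.map φ.hom.toMonoidHom u)
    (S0127.result (Spec.map (CommRingCat.ofHom φ.hom)) F hc)
    (TorsionBasic.killedBy_map (EtCoh.pull (Spec.map (CommRingCat.ofHom φ.hom))) N _ hF) i
  have e1 := (ASC.asNpull (q := p ^ e) (Polynomial.mapRingHom φ.hom) (C (u : R) * X)
    (C ((Units.map φ.hom.toMonoidHom u : Ωˣ) : Ω) * X) (by simp) hq).app ((EtCoh.pull (pr R)).obj F)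
  have e2 := (asN (p ^ e) (C ((Units.map φ.hom.toMonoidHom u : Ωˣ) : Ω) * X)).mapIso
    ((NPull.kap (Etdl.H161.PolySquare.isPullback_line φ.hom).w.symm).app F)
  have h4 := h2.congr (e1 ≪≫ e2) (Iso.refl _)
  obtain ⟨P', J', f', hJ', hJq', hf', w'⟩ := Groth.Agent.S0384.result (pr Ω)
  obtain ⟨e3⟩ := h4.out J' f' w'
  exact (h3.out J' f' w').of_iso e3.symm

include hpR he hN in
/-- the form used in `Step` (`u = 1`) -/
theorem vanLine (hFC : Hyp.FinCons.{u}) : VanLine (p ^ e) N R := by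
  intro F hc hF i
  have h := main hpR he hN (1 : Rˣ) hFC hc hF i
  have e1 : (C ((1 : Rˣ) : R) * X : R[X]) = X := by simp
  rw [e1] at h
  exact h

include hpR he hN in
/-- (P1) `R^i pr_* (N_{u X} (pr^* F)) = 0`. -/
theorem isZero_rpush (hL : Hyp.LineAcyc.{u}) {F : EtCoh.Ab (Spec (CommRingCat.of R))}
    (hc : EtPBC.IsConstructible F) (hF : EtCoh.KilledBy N F) (i : ℕ) :
    IsZero ((EtCoh.Rpush (pr R) i).obj
      ((asN (p ^ e) (C (u : R) * X)).obj ((EtCoh.pull (pr R)).obj F))) := by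
  rcases subsingleton_or_nontrivial R with hR | hR
  · refine Etcore.Stalks.isZero_of_stalks _ fun z => ?_
    have : IsEmpty (PrimeSpectrum R) := PrimeSpectrum.isEmpty_iff_subsingleton.2 hR
    exact (this.false (show PrimeSpectrum R from z)).elim
  have hq : 2 ≤ p ^ e := by
    calc 2 ≤ p := hp.out.two_le
      _ = p ^ 1 := (pow_one p).symm
      _ ≤ p ^ e := Nat.pow_le_pow_right hp.out.pos he
  have hqX : ((p ^ e : ℕ) : R[X]) = 0 := by
    rw [Nat.cast_pow, ← map_natCast (C : R →+* R[X]), hpR, map_zero, zero_pow (by omega)]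
  have hcop : (p ^ e).Coprime N := by
    apply Nat.Coprime.pow_left
    rw [Nat.Prime.coprime_iff_not_dvd hp.out]
    rintro ⟨m, rfl⟩
    rw [Nat.cast_mul, hpR, zero_mul] at hN
    exact not_isUnit_zero hN
  have fe := ASC.fe_asc (C (u : R) * X) hq hqX
  have hF1 := TorsionBasic.killedBy_map (EtCoh.pull (pr R)) N _ hF
  have i2 : IsFinite (bet (p ^ e) u) := by
    have i1 : IsFinite (asc (p ^ e) (C (u : R) * X)) := fe.fin
    rw [← lam_asc]
    infer_instance
  refine fe.isZero_N hcop hF1 (EtCoh.Rpush (pr R) i) (fun z => ?_) ?_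
  · obtain ⟨Ω', i1, i2, ξ, hξ⟩ := Etcore.Stalks.exists_geom z
    refine ⟨Ω', i1, i2, ξ, hξ, ?_⟩
    obtain ⟨h0, h1⟩ := hL R N hN F hF
    rcases Nat.eq_zero_or_pos i with rfl | hi
    · have hfin : Finite ((EtCoh.stalk ξ).obj F) := GeomPointIndep.finite_stalk_of_constructible ξ F hc
      let E : F ≅ (EtCoh.Rpush (pr R) 0).obj ((EtCoh.pull (pr R)).obj F) :=
        asIso ((EtCoh.pullPushAdj (pr R)).unit.app F) ≪≫
          ((EtCoh.push (pr R)).rightDerivedZeroIsoSelf.symm.app _)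
      exact Finite.of_equiv _ ((forget AddCommGrpCat).mapIso ((EtCoh.stalk ξ).mapIso E)).toEquiv
    · have h2 : IsZero ((EtCoh.stalk ξ).obj ((EtCoh.Rpush (pr R) i).obj ((EtCoh.pull (pr R)).obj F))) :=
        Functor.map_isZero _ (h1 i hi)
      have := AddCommGrpCat.subsingleton_of_isZero h2
      infer_instance
  · obtain ⟨e1⟩ := nonempty_cover (p ^ e) u ((EtCoh.pull (pr R)).obj F)
    obtain ⟨e2⟩ := CommLib.nonempty_rpush_push (bet (p ^ e) u) (pr R) (pr R) (bet_pr (p ^ e) u)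
      ((EtCoh.pull (bet (p ^ e) u)).obj ((EtCoh.pull (pr R)).obj F)) i
    exact ⟨(EtCoh.Rpush (pr R) i).mapIso e1 ≪≫ e2 ≪≫ (EtCoh.Rpush (pr R) i).mapIso
      (CommLib.pullPull (bet (p ^ e) u) (pr R) (pr R) (bet_pr (p ^ e) u) F)⟩

end general

end Groth.Agent.Sga4h.H182.VanLine
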