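import Groth.Agent.Sga4h.H299.Exc
import Groth.Agent.Sga4h.H299.RsBC
import Groth.Agent.Sga2lef.H252.ModOf
import Groth.Agent.Sga4h.H929.NShriek
import Groth.Agent.Etcore.ShriekBaseChange
import Groth.Agent.EtpbcA.PullFLC
import Groth.Agent.S0384

/-!
# `R^q f_!` of abelian sheaves killed by `N`, for all compactifications at once

* `RsIs f F q G` : `R^q p_* (j_! F) ≅ G` for every compactification `f = j ≫ p`;
* `RsZero f F q` : `R^q p_* (j_! F) = 0` for every compactification;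
* independence of the compactification, Leray (one row), base change, excision, the functors `N_c`.
-/

set_option autoImplicit false
universe u

open CategoryTheory CategoryTheory.Limits AlgebraicGeometry Opposite

namespace Groth.Agent.Sga4h.H182.AbRs

open Groth.Agent.Sga4h.ModRestr Groth.Agent.Sga4h.EtaleRes Groth.Agent.Etrest.ModAb
  Groth.Agent.Sga4h.H299 Groth.Agent.Sga4h.H299.ExtBC Groth.Agent.Sga4h.H299.Rs
  Groth.Agent.Sga4h.H299.AbBasic Groth.Agent.EtpbcB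

attribute [local instance] jCont

/-- `R^q f_! F ≅ G`, computed with every compactification of `f`. -/
structure RsIs {X S : Scheme.{u}} (f : X ⟶ S) (F : EtCoh.Ab X) (q : ℕ) (G : EtCoh.Ab S) : Prop where
  out : ∀ {P : Scheme.{u}} (j : X ⟶ P) [IsOpenImmersion j] (p : P ⟶ S) [IsProper p], j ≫ p = f →
    Nonempty ((EtCoh.Rpush p q).obj ((EtShriek.extZero j).obj F) ≅ G)

/-- `R^q f_! F = 0`, computed with every compactification of `f`. -/
structure RsZero {X S : Scheme.{u}} (f : X ⟶ S) (F : EtCoh.Ab X) (q : ℕ) : Prop where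
  out : ∀ {P : Scheme.{u}} (j : X ⟶ P) [IsOpenImmersion j] (p : P ⟶ S) [IsProper p], j ≫ p = f →
    IsZero ((EtCoh.Rpush p q).obj ((EtShriek.extZero j).obj F))

section basic

variable {X S : Scheme.{u}} {f : X ⟶ S} {F F' : EtCoh.Ab X} {q : ℕ} {G G' : EtCoh.Ab S}

theorem RsIs.zero (h : RsIs f F q G) (hG : IsZero G) : RsZero f F q := by
  refine ⟨fun {P} j _ p _ w => ?_⟩
  obtain ⟨e⟩ := h.out j p w
  exact hG.of_iso e

theorem RsZero.is (h : RsZero f F q) (hG : IsZero G) : RsIs f F q G := by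
  refine ⟨fun {P} j _ p _ w => ?_⟩
  exact ⟨(h.out j p w).iso hG⟩

theorem RsIs.congr (h : RsIs f F q G) (e : F ≅ F') (e' : G ≅ G') : RsIs f F' q G' := by
  refine ⟨fun {P} j _ p _ w => ?_⟩
  obtain ⟨e1⟩ := h.out j p w
  exact ⟨(EtCoh.Rpush p q).mapIso ((EtShriek.extZero j).mapIso e.symm) ≪≫ e1 ≪≫ e'⟩

theorem RsZero.congr (h : RsZero f F q) (e : F ≅ F') : RsZero f F' q := by
  refine ⟨fun {P} j _ p _ w => ?_⟩
  exact (h.out j p w).of_iso ((EtCoh.Rpush p q).mapIso ((EtShriek.extZero j).mapIso e.symm))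

/-- The underlying abelian sheaf of `R^q f_! M`. -/
noncomputable def rsIso {n : ℕ} {P : Scheme.{u}} (j : X ⟶ P) [IsOpenImmersion j] (p : P ⟶ S) (q : ℕ)
    (M : EtModW.Mod (Sga4B.LMLS.Lam.{u} n) X) {F : EtCoh.Ab X}
    (e : (ab (Sga4B.LMLS.Lam.{u} n) X).obj M ≅ F) :
    (ab (Sga4B.LMLS.Lam.{u} n) S).obj ((RS (Sga4B.LMLS.Lam.{u} n) j p q).obj M) ≅
      (EtCoh.Rpush p q).obj ((EtShriek.extZero j).obj F) :=
  (rsAb (Sga4B.LMLS.Lam.{u} n) j p q).app M ≪≫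
    (EtCoh.Rpush p q).mapIso ((EtShriek.extZero j).mapIso e)

theorem lam_cast (n : ℕ) : ((n : ℕ) : Sga4B.LMLS.Lam.{u} n) = 0 := by
  apply ULift.down_injective
  exact ZMod.natCast_self n

theorem killedBy_rs {n : ℕ} {P : Scheme.{u}} (j : X ⟶ P) [IsOpenImmersion j] (p : P ⟶ S) (q : ℕ)
    (hF : EtCoh.KilledBy n F) :
    EtCoh.KilledBy n ((EtCoh.Rpush p q).obj ((EtShriek.extZero j).obj F)) :=
  TorsionBasic.killedBy_map (EtCoh.Rpush p q) n _ (TorsionBasic.killedBy_map (EtShriek.extZero j) n _ hF)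

theorem killedBy_of_iso {n : ℕ} {A B : EtCoh.Ab X} (e : A ≅ B) (h : EtCoh.KilledBy n A) :
    EtCoh.KilledBy n B := by
  rw [TorsionBasic.killedBy_iff] at h ⊢
  have : n • 𝟙 B = e.inv ≫ (n • 𝟙 A) ≫ e.hom := by simp
  rw [this, h]
  simp

end basic

section indep

variable {N : ℕ} {X S P P' : Scheme.{u}}

/-- Independence of the compactification. -/
theorem indep (hN : 0 < N) {F : EtCoh.Ab X} (hF : EtCoh.KilledBy N F) (j : X ⟶ P) (p : P ⟶ S)
    (j' : X ⟶ P') (p' : P' ⟶ S) [IsOpenImmersion j] [IsOpenImmersion j'] [IsProper p] [IsProper p']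
    [QuasiCompact j] (w : j ≫ p = j' ≫ p') (q : ℕ) :
    Nonempty ((EtCoh.Rpush p q).obj ((EtShriek.extZero j).obj F) ≅
      (EtCoh.Rpush p' q).obj ((EtShriek.extZero j').obj F)) := by
  obtain ⟨M, ⟨e⟩⟩ := Sga2lef.H252.ModOf.exists_mod F hF
  obtain ⟨e1⟩ := Leray.nonempty_indep hN (lam_cast N) j p j' p' w q M
  exact ⟨(rsIso j p q M e).symm ≪≫ (ab _ S).mapIso e1 ≪≫ rsIso j' p' q M e⟩

theorem quasiCompact_of_fac {f : X ⟶ S} [QuasiCompact f] (j : X ⟶ P) (p : P ⟶ S) [IsProper p]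
    (w : j ≫ p = f) : QuasiCompact j := by
  have : QuasiCompact (j ≫ p) := by rw [w]; infer_instance
  exact QuasiCompact.of_comp j p

theorem RsIs.of_one (hN : 0 < N) {F : EtCoh.Ab X} (hF : EtCoh.KilledBy N F) {f : X ⟶ S} [QuasiCompact f]
    (j : X ⟶ P) (p : P ⟶ S) [IsOpenImmersion j] [IsProper p] (w : j ≫ p = f) {q : ℕ} {G : EtCoh.Ab S}
    (h : Nonempty ((EtCoh.Rpush p q).obj ((EtShriek.extZero j).obj F) ≅ G)) : RsIs f F q G := by
  refine ⟨fun {P'} j' _ p' _ w' => ?_⟩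
  have := quasiCompact_of_fac j' p' w'
  obtain ⟨e⟩ := h
  obtain ⟨e1⟩ := indep hN hF j' p' j p (w'.trans w.symm) q
  exact ⟨e1 ≪≫ e⟩

theorem RsZero.of_one (hN : 0 < N) {F : EtCoh.Ab X} (hF : EtCoh.KilledBy N F) {f : X ⟶ S} [QuasiCompact f]
    (j : X ⟶ P) (p : P ⟶ S) [IsOpenImmersion j] [IsProper p] (w : j ≫ p = f) {q : ℕ}
    (h : IsZero ((EtCoh.Rpush p q).obj ((EtShriek.extZero j).obj F))) : RsZero f F q := by
  refine ⟨fun {P'} j' _ p' _ w' => ?_⟩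
  have := quasiCompact_of_fac j' p' w'
  obtain ⟨e1⟩ := indep hN hF j' p' j p (w'.trans w.symm) q
  exact h.of_iso e1

end indep

section leray

variable {N : ℕ} {X Y S : Scheme.{u}} (f : X ⟶ Y) (g : Y ⟶ S)
  [IsSeparated f] [QuasiCompact f] [LocallyOfFiniteType f]
  [IsSeparated g] [QuasiCompact g] [LocallyOfFiniteType g]
  [CompactSpace Y] [QuasiSeparatedSpace Y] [CompactSpace S] [QuasiSeparatedSpace S]

omit [IsSeparated g] [LocallyOfFiniteType g] in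
/-- Leray, one row, with both sides computed with arbitrary compactifications. -/
theorem leray_iso (hN : 0 < N) {F : EtCoh.Ab X} (hF : EtCoh.KilledBy N F) (a : ℕ) {G : EtCoh.Ab Y}
    (h0 : ∀ q, q ≠ a → RsZero f F q) (ha : RsIs f F a G) (m : ℕ)
    {Q : Scheme.{u}} (k : Y ⟶ Q) [IsOpenImmersion k] (r : Q ⟶ S) [IsProper r] (wk : k ≫ r = g) :
    RsIs (f ≫ g) F (m + a) ((EtCoh.Rpush r m).obj ((EtShriek.extZero k).obj G)) := by
  refine ⟨fun {P} l _ e _ w => ?_⟩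
  obtain ⟨Pf, j, p, hj, hjq, hp, wj⟩ := Groth.Agent.S0384.result f
  have hQ1 : CompactSpace Q := QuasiCompact.compactSpace_of_compactSpace r
  have hQ2 : QuasiSeparatedSpace Q := quasiSeparatedSpace_of_quasiSeparated r
  have hk := quasiCompact_of_fac (f := g) k r wk
  obtain ⟨M, ⟨eM⟩⟩ := Sga2lef.H252.ModOf.exists_mod F hF
  obtain ⟨e1⟩ := Leray.nonempty_leray j p k r l e hN (lam_cast N)
    (by rw [w, ← wj, ← wk, Category.assoc]) a M
    (fun q hq => isZero_of_ab ((h0 q hq).out j p wj |>.of_iso (rsIso j p q M eM))) m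
  obtain ⟨e2⟩ := ha.out j p wj
  exact ⟨(rsIso l e (m + a) M eM).symm ≪≫ (ab _ S).mapIso e1 ≪≫
    rsIso k r m _ (rsIso j p a M eM ≪≫ e2)⟩

theorem leray (hN : 0 < N) {F : EtCoh.Ab X} (hF : EtCoh.KilledBy N F) (a : ℕ) {G : EtCoh.Ab Y}
    (h0 : ∀ q, q ≠ a → RsZero f F q) (ha : RsIs f F a G) {m : ℕ} {H : EtCoh.Ab S} (hH : RsIs g G m H) :
    RsIs (f ≫ g) F (m + a) H := by
  obtain ⟨Q, k, r, hk, hkq, hr, wk⟩ := Groth.Agent.S0384.result g
  obtain ⟨e⟩ := hH.out k r wk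
  exact (leray_iso f g hN hF a h0 ha m k r wk).congr (Iso.refl _) e

theorem leray_zero (hN : 0 < N) {F : EtCoh.Ab X} (hF : EtCoh.KilledBy N F) (a : ℕ) {G : EtCoh.Ab Y}
    (h0 : ∀ q, q ≠ a → RsZero f F q) (ha : RsIs f F a G) {m : ℕ} (hH : RsZero g G m) :
    RsZero (f ≫ g) F (m + a) := by
  obtain ⟨Q, k, r, hk, hkq, hr, wk⟩ := Groth.Agent.S0384.result g
  exact (leray_iso f g hN hF a h0 ha m k r wk).zero (hH.out k r wk)

theorem leray_below (hN : 0 < N) {F : EtCoh.Ab X} (hF : EtCoh.KilledBy N F) (a : ℕ)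
    (h0 : ∀ q, q < a → RsZero f F q) (m : ℕ) (hm : m < a) : RsZero (f ≫ g) F m := by
  refine ⟨fun {P} l _ e _ w => ?_⟩
  obtain ⟨Pf, j, p, hj, hjq, hp, wj⟩ := Groth.Agent.S0384.result f
  obtain ⟨Q, k, r, hk, hkq, hr, wk⟩ := Groth.Agent.S0384.result g
  have hQ1 : CompactSpace Q := QuasiCompact.compactSpace_of_compactSpace r
  have hQ2 : QuasiSeparatedSpace Q := quasiSeparatedSpace_of_quasiSeparated r
  obtain ⟨M, ⟨eM⟩⟩ := Sga2lef.H252.ModOf.exists_mod F hF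
  exact (isZero_ab (Leray.isZero_leray_below j p k r l e hN (lam_cast N)
    (by rw [w, ← wj, ← wk, Category.assoc]) a M
    (fun q hq => isZero_of_ab ((h0 q hq).out j p wj |>.of_iso (rsIso j p q M eM))) m hm)).of_iso
    (rsIso l e m M eM).symm

theorem leray_all (hN : 0 < N) {F : EtCoh.Ab X} (hF : EtCoh.KilledBy N F)
    (h0 : ∀ q, RsZero f F q) (m : ℕ) : RsZero (f ≫ g) F m :=
  leray_below f g hN hF (m + 1) (fun q _ => h0 q) m (Nat.lt_succ_self m)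

end leray

section bc

variable {N : ℕ} {X S X' S' : Scheme.{u}} {f : X ⟶ S} {g : S' ⟶ S} {g₁ : X' ⟶ X} {g₂ : X' ⟶ S'}

/-- Proper base change. -/
theorem RsIs.baseChange [IsSeparated f] [QuasiCompact f] [LocallyOfFiniteType f] [CompactSpace S]
    [QuasiSeparatedSpace S] (hN : 0 < N) {F : EtCoh.Ab X} (hF : EtCoh.KilledBy N F)
    (H : IsPullback g₁ g₂ f g) {q : ℕ} {G : EtCoh.Ab S} (h : RsIs f F q G) :
    RsIs g₂ ((EtCoh.pull g₁).obj F) q ((EtCoh.pull g).obj G) := by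
  obtain ⟨P, j, p, hj, hjq, hp, wj⟩ := Groth.Agent.S0384.result f
  obtain ⟨P', j', p', gP, h1, h2, w', s1, s2⟩ := RsBC.exists_baseChange j p (wj.symm ▸ H)
  have hqc : QuasiCompact g₂ := MorphismProperty.of_isPullback H inferInstance
  obtain ⟨M, ⟨eM⟩⟩ := Sga2lef.H252.ModOf.exists_mod F hF
  obtain ⟨e1⟩ := RsBC.nonempty_rs_pbc hN (lam_cast N) s1 s2 q M
  obtain ⟨e2⟩ := h.out j p wj
  exact RsIs.of_one hN (TorsionBasic.killedBy_map (EtCoh.pull g₁) N _ hF) j' p' w' ⟨(rsIso j' p' q _ ((pullIso _ g₁).app M ≪≫ (EtCoh.pull g₁).mapIso eM)).symm ≪≫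
    (ab _ S').mapIso e1.symm ≪≫ (pullIso _ g).app _ ≪≫
      (EtCoh.pull g).mapIso (rsIso j p q M eM ≪≫ e2)⟩

theorem RsZero.baseChange [IsSeparated f] [QuasiCompact f] [LocallyOfFiniteType f] [CompactSpace S]
    [QuasiSeparatedSpace S] (hN : 0 < N) {F : EtCoh.Ab X} (hF : EtCoh.KilledBy N F)
    (H : IsPullback g₁ g₂ f g) {q : ℕ} (h : RsZero f F q) :
    RsZero g₂ ((EtCoh.pull g₁).obj F) q := by
  obtain ⟨Z0, hz⟩ : ∃ Z0 : EtCoh.Ab S, IsZero Z0 := HasZeroObject.zero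
  exact (RsIs.baseChange hN hF H (h.is hz)).zero ((EtCoh.pull g).map_isZero hz)

end bc

section exc

variable {N : ℕ} {U X Z S : Scheme.{u}} (j : U ⟶ X) [IsOpenImmersion j] (b : Z ⟶ X) [IsClosedImmersion b]
  (f : X ⟶ S) [IsSeparated f] [QuasiCompact f] [LocallyOfFiniteType f]
  [CompactSpace S] [QuasiSeparatedSpace S] [QuasiCompact j]

/-- Excision: if the closed part does not contribute. -/
theorem excision (hN : 0 < N) {F : EtCoh.Ab X} (hF : EtCoh.KilledBy N F) (hr : Set.range j = (Set.range b)ᶜ)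
    (hZ : ∀ q, RsZero (b ≫ f) ((EtCoh.pull b).obj F) q) {q : ℕ} {G : EtCoh.Ab S}
    (h : RsIs (j ≫ f) ((EtCoh.pull j).obj F) q G) : RsIs f F q G := by
  refine ⟨fun {P} l _ p _ w => ?_⟩
  obtain ⟨PU, lU, pU, hlU, hlUq, hpU, wU⟩ := Groth.Agent.S0384.result (j ≫ f)
  obtain ⟨PZ, lZ, pZ, hlZ, hlZq, hpZ, wZ⟩ := Groth.Agent.S0384.result (b ≫ f)
  have hP1 : CompactSpace P := QuasiCompact.compactSpace_of_compactSpace p
  have hP2 : QuasiSeparatedSpace P := quasiSeparatedSpace_of_quasiSeparated p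
  have hl := quasiCompact_of_fac (f := f) l p w
  obtain ⟨M, ⟨eM⟩⟩ := Sga2lef.H252.ModOf.exists_mod F hF
  obtain ⟨e1⟩ := Exc.nonempty_of_closed j b l p lU pU lZ pZ hN (lam_cast N) hr (by rw [wU, w])
    (by rw [wZ, w]) M
    (fun q => isZero_of_ab ((hZ q).out lZ pZ wZ |>.of_iso
      (rsIso lZ pZ q _ ((pullIso _ b).app M ≪≫ (EtCoh.pull b).mapIso eM)))) q
  obtain ⟨e2⟩ := h.out lU pU wU
  exact ⟨(rsIso l p q M eM).symm ≪≫ (ab _ S).mapIso e1.symm ≪≫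
    rsIso lU pU q _ ((pullIso _ j).app M ≪≫ (EtCoh.pull j).mapIso eM) ≪≫ e2⟩

end exc

section finite

variable {N : ℕ} {X Z S : Scheme.{u}} (b : Z ⟶ X) [IsFinite b]
  (f : X ⟶ S) [IsSeparated f] [QuasiCompact f] [LocallyOfFiniteType f]
  [CompactSpace S] [QuasiSeparatedSpace S]

/-- Finite direct images: `R^q f_! (b_* E) ≅ R^q (b ≫ f)_! E`. -/
theorem RsIs.finite (hN : 0 < N) {E : EtCoh.Ab Z} (hE : EtCoh.KilledBy N E) {q : ℕ} {G : EtCoh.Ab S}
    (h : RsIs (b ≫ f) E q G) : RsIs f ((EtCoh.push b).obj E) q G := by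
  refine ⟨fun {P} l _ p _ w => ?_⟩
  obtain ⟨PZ, lZ, pZ, hlZ, hlZq, hpZ, wZ⟩ := Groth.Agent.S0384.result (b ≫ f)
  have hP1 : CompactSpace P := QuasiCompact.compactSpace_of_compactSpace p
  have hP2 : QuasiSeparatedSpace P := quasiSeparatedSpace_of_quasiSeparated p
  have hl := quasiCompact_of_fac (f := f) l p w
  obtain ⟨M, ⟨eM⟩⟩ := Sga2lef.H252.ModOf.exists_mod E hE
  obtain ⟨e1⟩ := Exc.nonempty_rs_finite hN (lam_cast N) b l p lZ pZ (by rw [wZ, w]) M q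
  obtain ⟨e2⟩ := h.out lZ pZ wZ
  exact ⟨(rsIso l p q _ ((pushIso _ b).app M ≪≫ (EtCoh.push b).mapIso eM)).symm ≪≫
    (ab _ S).mapIso e1.symm ≪≫ rsIso lZ pZ q M eM ≪≫ e2⟩

end finite

section iso

variable {X X' S : Scheme.{u}}

/-- Extension by zero after an isomorphism. -/
noncomputable def extZeroIsoOfIso {P : Scheme.{u}} (φ : X' ⟶ X) [IsIso φ] (j : X ⟶ P) [IsOpenImmersion j]
    (F : EtCoh.Ab X) :
    (EtShriek.extZero (φ ≫ j)).obj ((EtCoh.pull φ).obj F) ≅ (EtShriek.extZero j).obj F :=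
  (Etcore.ShriekBaseChange.extZeroBaseChange j (𝟙 P) (φ ≫ j) φ
    (IsPullback.of_vert_isIso ⟨by rw [Category.comp_id]⟩)).app F ≪≫
    (EtpbcA.PullFLC.pullId P).app _

theorem RsIs.of_iso (φ : X' ⟶ X) [IsIso φ] {f : X ⟶ S} {F : EtCoh.Ab X} {q : ℕ} {G : EtCoh.Ab S}
    (h : RsIs (φ ≫ f) ((EtCoh.pull φ).obj F) q G) : RsIs f F q G := by
  refine ⟨fun {P} j _ p _ w => ?_⟩
  obtain ⟨e⟩ := h.out (φ ≫ j) p (by rw [Category.assoc, w])
  exact ⟨(EtCoh.Rpush p q).mapIso (extZeroIsoOfIso φ j F).symm ≪≫ e⟩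

theorem RsZero.of_iso (φ : X' ⟶ X) [IsIso φ] {f : X ⟶ S} {F : EtCoh.Ab X} {q : ℕ}
    (h : RsZero (φ ≫ f) ((EtCoh.pull φ).obj F) q) : RsZero f F q := by
  refine ⟨fun {P} j _ p _ w => ?_⟩
  exact (h.out (φ ≫ j) p (by rw [Category.assoc, w])).of_iso
    ((EtCoh.Rpush p q).mapIso (extZeroIsoOfIso φ j F).symm)

end iso

section Nfun

open Groth.Agent.Sga4h.H929.NDef

variable {X S X' S' : Scheme.{u}}

/-- The functors `N_c` commute with `R^q f_!`. -/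
theorem RsIs.N {f : X ⟶ S} {c : S' ⟶ S} {c' : X' ⟶ X} {f' : X' ⟶ S'} (H : IsPullback c' f' f c)
    [Etale c] [Surjective c] [IsIntegralHom c] {F : EtCoh.Ab X} {q : ℕ} {G : EtCoh.Ab S}
    (h : RsIs f F q G) : RsIs f ((N c').obj F) q ((N c).obj G) := by
  refine ⟨fun {P} j _ p _ w => ?_⟩
  obtain ⟨e⟩ := h.out j p w
  subst w
  have t : IsPullback (pullback.fst p c) (pullback.snd p c) p c := IsPullback.of_hasPullback p c
  have hw : (c' ≫ j) ≫ p = f' ≫ c := by rw [Category.assoc, H.w]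
  let j' : X' ⟶ pullback p c := pullback.lift (c' ≫ j) f' hw
  have w1 : j' ≫ pullback.fst p c = c' ≫ j := pullback.lift_fst _ _ _
  have w2 : j' ≫ pullback.snd p c = f' := pullback.lift_snd _ _ _
  have s : IsPullback j' c' (pullback.fst p c) j := by
    refine (IsPullback.of_bot ?_ w1.symm t).flip
    rw [w2]
    exact H
  have i1 : IsIntegralHom (pullback.fst p c) := inferInstance
  exact ⟨(EtCoh.Rpush p q).mapIso (H929.NShriek.extZeroIso s F) ≪≫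
    H929.NPush.rpushIso t _ q ≪≫ (H929.NDef.N c).mapIso e⟩

end Nfun

end Groth.Agent.Sga4h.H182.AbRs
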