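import Groth.Agent.Sga4h.H929.NDef
import Groth.Agent.Etdl.H161.PolySquare
import Mathlib.AlgebraicGeometry.Morphisms.ClosedImmersion
import Mathlib.AlgebraicGeometry.Morphisms.FiniteType
import Mathlib.AlgebraicGeometry.PullbackCarrier

/-!
# Geometry of the product map

For a `K`-algebra `R` and `u : R`, `π = piK u : Spec R ⟶ A¹`, `X ↦ u`; `V = {u ≠ 0}`; on the open part
`U = {u ≠ 0}` of `Spec R[X]` the map `π' = piK (u X)` factors as `U ⟶ G_m × A¹ ⟶ A¹`.
-/

set_option autoImplicit false
universe u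

open CategoryTheory CategoryTheory.Limits AlgebraicGeometry Opposite Polynomial
open scoped LaurentPolynomial

namespace Groth.Agent.Sga4h.H182.Geo

open Groth.Agent.Sga4h.H929.NDef

variable (K : Type u) [Field K] {R : Type u} [CommRing R] [Algebra K R] (u : R)

/-- `Spec R ⟶ A¹`, given by `u ∈ R`. -/
noncomputable abbrev piK : Spec (CommRingCat.of R) ⟶ Spec (CommRingCat.of K[X]) :=
  Spec.map (CommRingCat.ofHom (Polynomial.aeval (R := K) u).toRingHom)

/-- `Spec R[X] ⟶ Spec R` -/
noncomputable abbrev pr (R : Type u) [CommRing R] : Spec (CommRingCat.of R[X]) ⟶ Spec (CommRingCat.of R) :=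
  Spec.map (CommRingCat.ofHom (Polynomial.C : R →+* R[X]))

/-- `u` as a unit of `R_u` -/
noncomputable abbrev uL : (Localization.Away u)ˣ :=
  (IsLocalization.Away.algebraMap_isUnit (S := Localization.Away u) u).unit

/-- `V = {u ≠ 0} ⟶ Spec R` -/
noncomputable abbrev iotaV : Spec (CommRingCat.of (Localization.Away u)) ⟶ Spec (CommRingCat.of R) :=
  Spec.map (CommRingCat.ofHom (algebraMap R (Localization.Away u)))

/-- `K[T;T⁻¹] ⟶ R_u`, `T ↦ u` -/
noncomputable abbrev psi : K[T;T⁻¹] →+* Localization.Away u :=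
  LaurentPolynomial.eval₂ (algebraMap K (Localization.Away u)) (uL u)

/-- `V ⟶ G_m` -/
noncomputable abbrev piV :
    Spec (CommRingCat.of (Localization.Away u)) ⟶ Spec (CommRingCat.of K[T;T⁻¹]) :=
  Spec.map (CommRingCat.ofHom (psi K u))

theorem val_uL : ((uL u : (Localization.Away u)ˣ) : Localization.Away u) =
    algebraMap R (Localization.Away u) u := rfl

theorem psi_T : psi K u (LaurentPolynomial.T 1) = algebraMap R (Localization.Away u) u := by
  rw [psi, LaurentPolynomial.eval₂_T, zpow_one, val_uL]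

theorem psi_Tinv : psi K u (LaurentPolynomial.T (-1)) = ((uL u)⁻¹ : (Localization.Away u)ˣ) := by
  rw [psi, LaurentPolynomial.eval₂_T, zpow_neg, zpow_one]

theorem psi_toLaurent : (psi K u).comp (Polynomial.toLaurent : K[X] →+* K[T;T⁻¹]) =
    (algebraMap R (Localization.Away u)).comp (Polynomial.aeval (R := K) u).toRingHom := by
  apply Polynomial.ringHom_ext
  · intro a
    simp [psi, IsScalarTower.algebraMap_apply K R (Localization.Away u)]
  · simp [psi]

theorem w_V : iotaV u ≫ piK K u = piV K u ≫ ι K := by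
  rw [← Spec.map_comp, ← Spec.map_comp, ← CommRingCat.ofHom_comp, ← CommRingCat.ofHom_comp,
    psi_toLaurent]

instance isOpenImmersion_iotaV : IsOpenImmersion (iotaV u) := IsOpenImmersion.of_isLocalization u

instance isOpenImmersion_ι : IsOpenImmersion (ι K) :=
  IsOpenImmersion.of_isLocalization (R := K[X]) (S := K[T;T⁻¹]) (Polynomial.X : K[X])

theorem range_iotaV : Set.range (iotaV u) = {x | u ∉ x.asIdeal} :=
  PrimeSpectrum.localization_away_comap_range (Localization.Away u) u

theorem range_ι : Set.range (ι K) = {x | (Polynomial.X : K[X]) ∉ x.asIdeal} :=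
  PrimeSpectrum.localization_away_comap_range K[T;T⁻¹] (Polynomial.X : K[X])

theorem isPullback_V : IsPullback (iotaV u) (piV K u) (piK K u) (ι K) := by
  refine (IsOpenImmersion.isPullback (piV K u) (iotaV u) (ι K) (piK K u) (w_V K u) ?_).flip
  ext x
  change (piK K u) x ∈ Set.range (ι K) ↔ x ∈ Set.range (iotaV u)
  rw [range_iotaV, range_ι]
  change ¬ ((Polynomial.aeval (R := K) u).toRingHom X ∈ x.asIdeal) ↔ _
  simp

/-- `U ⟶ B = G_m × A¹` -/
noncomputable abbrev wU :
    Spec (CommRingCat.of (Localization.Away u)[X]) ⟶ Spec (CommRingCat.of (K[T;T⁻¹])[X]) :=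
  Spec.map (CommRingCat.ofHom (Polynomial.mapRingHom (psi K u)))

theorem isPullback_U : IsPullback (pr (Localization.Away u)) (wU K u) (piV K u) (prx K) :=
  (Etdl.H161.PolySquare.isPullback_line (psi K u)).flip

/-- `R[X] ⟶ R_u[X]`, `X ↦ u⁻¹ X` -/
noncomputable abbrev jr : R[X] →+* (Localization.Away u)[X] :=
  Polynomial.eval₂RingHom ((Polynomial.C).comp (algebraMap R (Localization.Away u)))
    (Polynomial.C (((uL u)⁻¹ : (Localization.Away u)ˣ) : Localization.Away u) * X)

/-- `U ⟶ Spec R[X]` -/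
noncomputable abbrev jU :
    Spec (CommRingCat.of (Localization.Away u)[X]) ⟶ Spec (CommRingCat.of R[X]) :=
  Spec.map (CommRingCat.ofHom (jr u))

section scale

variable {L : Type u} [CommRing L]

/-- `X ↦ v X` -/
noncomputable def sc (v : L) : L[X] →+* L[X] := Polynomial.eval₂RingHom Polynomial.C (Polynomial.C v * X)

theorem sc_C (v a : L) : sc v (C a) = C a := by simp [sc]

theorem sc_X (v : L) : sc v X = C v * X := by simp [sc]

theorem sc_comp (v w : L) (h : v * w = 1) : (sc v).comp (sc w) = RingHom.id _ := by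
  apply Polynomial.ringHom_ext
  · intro a
    simp [sc_C]
  · rw [RingHom.comp_apply, sc_X, map_mul, sc_C, sc_X, RingHom.id_apply, ← mul_assoc, ← C_mul, mul_comm w v,
      h, C_1, one_mul]

theorem isIso_sc (v : Lˣ) : IsIso (Spec.map (CommRingCat.ofHom (sc (v : L)))) := by
  refine ⟨Spec.map (CommRingCat.ofHom (sc ((v⁻¹ : Lˣ) : L))), ?_, ?_⟩
  · rw [← Spec.map_comp, ← CommRingCat.ofHom_comp, sc_comp _ _ (by simp)]
    exact Spec.map_id _
  · rw [← Spec.map_comp, ← CommRingCat.ofHom_comp, sc_comp _ _ (by simp)]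
    exact Spec.map_id _

end scale

theorem jr_eq : jr u = (sc (((uL u)⁻¹ : (Localization.Away u)ˣ) : Localization.Away u)).comp
    (Polynomial.mapRingHom (algebraMap R (Localization.Away u))) := by
  apply Polynomial.ringHom_ext
  · intro a
    simp [jr, sc_C]
  · simp [jr, sc_X]

/-- the open part before scaling -/
noncomputable abbrev jM :
    Spec (CommRingCat.of (Localization.Away u)[X]) ⟶ Spec (CommRingCat.of R[X]) :=
  Spec.map (CommRingCat.ofHom (Polynomial.mapRingHom (algebraMap R (Localization.Away u))))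

theorem jU_eq : jU u = Spec.map (CommRingCat.ofHom
    (sc (((uL u)⁻¹ : (Localization.Away u)ˣ) : Localization.Away u))) ≫ jM u := by
  rw [← Spec.map_comp, ← CommRingCat.ofHom_comp, ← jr_eq]

theorem isPullback_jM : IsPullback (jM u) (pr (Localization.Away u)) (pr R) (iotaV u) :=
  Etdl.H161.PolySquare.isPullback_line (algebraMap R (Localization.Away u))

instance isOpenImmersion_jM : IsOpenImmersion (jM u) :=
  MorphismProperty.of_isPullback (isPullback_jM u).flip inferInstance

instance isOpenImmersion_jU : IsOpenImmersion (jU u) := by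
  have := isIso_sc ((uL u)⁻¹)
  rw [jU_eq]
  infer_instance

/-- `Z = {u = 0}` in `Spec R` -/
noncomputable abbrev b0 : Spec (CommRingCat.of (R ⧸ Ideal.span {u})) ⟶ Spec (CommRingCat.of R) :=
  Spec.map (CommRingCat.ofHom (Ideal.Quotient.mk (Ideal.span {u})))

/-- `{u = 0}` in `Spec R[X]` -/
noncomputable abbrev bX : Spec (CommRingCat.of (R ⧸ Ideal.span {u})[X]) ⟶ Spec (CommRingCat.of R[X]) :=
  Spec.map (CommRingCat.ofHom (Polynomial.mapRingHom (Ideal.Quotient.mk (Ideal.span {u}))))

theorem isPullback_bX : IsPullback (bX u) (pr (R ⧸ Ideal.span {u})) (pr R) (b0 u) :=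
  Etdl.H161.PolySquare.isPullback_line (Ideal.Quotient.mk (Ideal.span {u}))

instance isClosedImmersion_b0 : IsClosedImmersion (b0 u) :=
  IsClosedImmersion.spec_of_surjective _ Ideal.Quotient.mk_surjective

instance isClosedImmersion_bX : IsClosedImmersion (bX u) :=
  MorphismProperty.of_isPullback (isPullback_bX u).flip inferInstance

theorem range_b0 : Set.range (b0 u) = {x | u ∈ x.asIdeal} := by
  have h := range_comap_of_surjective _ (Ideal.Quotient.mk (Ideal.span {u}))
    Ideal.Quotient.mk_surjective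
  refine h.trans ?_
  rw [Ideal.mk_ker, PrimeSpectrum.zeroLocus_span]
  ext x
  change ({u} : Set R) ⊆ x.asIdeal ↔ u ∈ x.asIdeal
  rw [Set.singleton_subset_iff]
  rfl

theorem range_of_isPullback {P X Y Z : Scheme.{u}} {fst : P ⟶ X} {snd : P ⟶ Y} {f : X ⟶ Z} {g : Y ⟶ Z}
    (h : IsPullback fst snd f g) : Set.range fst = f ⁻¹' Set.range g := by
  have h1 : fst = h.isoPullback.hom ≫ pullback.fst f g := (h.isoPullback_hom_fst).symm
  have h2 : Function.Surjective h.isoPullback.hom := h.isoPullback.hom.surjective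
  rw [h1]
  change Set.range (fun x => (pullback.fst f g) (h.isoPullback.hom x)) = _
  rw [show (fun x => (pullback.fst f g) (h.isoPullback.hom x)) =
    (pullback.fst f g) ∘ (h.isoPullback.hom) from rfl, Set.range_comp, h2.range_eq, Set.image_univ,
    Scheme.Pullback.range_fst]

theorem range_jU : Set.range (jU u) = (Set.range (bX u))ᶜ := by
  have h1 : Set.range (jU u) = Set.range (jM u) := by
    have := isIso_sc ((uL u)⁻¹)
    have h2 : Function.Surjective (Spec.map (CommRingCat.ofHom
      (sc (((uL u)⁻¹ : (Localization.Away u)ˣ) : Localization.Away u)))) := Scheme.Hom.surjective _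
    rw [jU_eq]
    change Set.range ((jM u) ∘ (Spec.map (CommRingCat.ofHom
      (sc (((uL u)⁻¹ : (Localization.Away u)ˣ) : Localization.Away u))))) = _
    rw [h2.range_comp]
  rw [h1, range_of_isPullback (isPullback_jM u), range_of_isPullback (isPullback_bX u), range_iotaV,
    range_b0]
  rfl

theorem w_U : jU u ≫ piK K (C u * X) = wU K u ≫ pra K := by
  rw [← Spec.map_comp, ← Spec.map_comp, ← CommRingCat.ofHom_comp, ← CommRingCat.ofHom_comp]
  congr 2
  apply Polynomial.ringHom_ext
  · intro a
    simp [jr, psi, IsScalarTower.algebraMap_apply K R (Localization.Away u), Polynomial.algebraMap_apply]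
  · simp only [RingHom.comp_apply, AlgHom.toRingHom_eq_coe, RingHom.coe_coe, aeval_X, jr, map_mul,
      Polynomial.coe_eval₂RingHom, eval₂_C, eval₂_X, coe_mapRingHom, Polynomial.map_X]
    rw [← mul_assoc, ← C_mul]
    have : algebraMap R (Localization.Away u) u * (((uL u)⁻¹ : (Localization.Away u)ˣ) :
        Localization.Away u) = 1 := (uL u).mul_inv
    rw [this, C_1, one_mul]

theorem w_pr : jU u ≫ pr R = pr (Localization.Away u) ≫ iotaV u := by
  rw [← Spec.map_comp, ← Spec.map_comp, ← CommRingCat.ofHom_comp, ← CommRingCat.ofHom_comp]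
  congr 2
  ext a
  simp [jr]

theorem w_bpr : bX u ≫ pr R = pr (R ⧸ Ideal.span {u}) ≫ b0 u := (isPullback_bX u).w

/-- `Z ⟶ A¹`, the zero map -/
theorem w_b : bX u ≫ piK K (C u * X) = pr (R ⧸ Ideal.span {u}) ≫ piK K (0 : R ⧸ Ideal.span {u}) := by
  rw [← Spec.map_comp, ← Spec.map_comp, ← CommRingCat.ofHom_comp, ← CommRingCat.ofHom_comp]
  congr 2
  apply Polynomial.ringHom_ext
  · intro a
    simp [Polynomial.algebraMap_apply]
  · have h : (Ideal.Quotient.mk (Ideal.span {u})) u = 0 :=
      Ideal.Quotient.eq_zero_iff_mem.2 (Ideal.mem_span_singleton_self u)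
    simp [h]

/-- `R[X] ⟶ R_u[X]` sends `X` to the image of `a / x`. -/
theorem mapRingHom_aox : Polynomial.mapRingHom (psi K u) (aox K) = jr u X := by
  simp only [aox, map_mul, coe_mapRingHom, Polynomial.map_C, Polynomial.map_X, psi_Tinv, jr,
    Polynomial.coe_eval₂RingHom, eval₂_X]

end Groth.Agent.Sga4h.H182.Geo
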