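import Groth.Agent.Sga4h.H182.Step
import Groth.Agent.Sga4h.H961.RR

/-!
# `K[x_0, …, x_n] ≅ K[x_0, …, x_(n-1)][X]`
-/

set_option autoImplicit false
universe u

open CategoryTheory CategoryTheory.Limits AlgebraicGeometry Opposite Polynomial

namespace Groth.Agent.Sga4h.H182.MvTau

open Groth.Agent.Sga4h.H929 Groth.Agent.Sga4h.H929.NDef Groth.Agent.Sga4h.H182.AbRs
  Groth.Agent.Sga4h.H182.Geo Groth.Agent.Sga4h.H182.Step Groth.Agent.Sga4h.H961.RR

section ring

variable (K : Type u) [CommRing K] (n : ℕ)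

/-- `K[x_0, …, x_n] ⟶ K[x_0, …, x_(n-1)][X]` -/
noncomputable def tau : MvPolynomial (Fin (n + 1)) K →+* (MvPolynomial (Fin n) K)[X] :=
  MvPolynomial.eval₂Hom ((Polynomial.C : MvPolynomial (Fin n) K →+* _).comp MvPolynomial.C)
    (Fin.snoc (α := fun _ => (MvPolynomial (Fin n) K)[X]) (fun i => Polynomial.C (MvPolynomial.X i)) Polynomial.X)

/-- the inverse -/
noncomputable def tauInv : (MvPolynomial (Fin n) K)[X] →+* MvPolynomial (Fin (n + 1)) K :=
  Polynomial.eval₂RingHom (MvPolynomial.rename (Fin.castSucc : Fin n → Fin (n + 1)) :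
      MvPolynomial (Fin n) K →ₐ[K] MvPolynomial (Fin (n + 1)) K).toRingHom (MvPolynomial.X (Fin.last n))

theorem tau_C (a : K) : tau K n (MvPolynomial.C a) = Polynomial.C (MvPolynomial.C a) := by
  simp [tau]

theorem tau_castSucc (i : Fin n) : tau K n (MvPolynomial.X i.castSucc) =
    Polynomial.C (MvPolynomial.X i) := by
  simp [tau]

theorem tau_last : tau K n (MvPolynomial.X (Fin.last n)) = Polynomial.X := by
  simp [tau]

theorem tau_comp_rename : (tau K n).comp (MvPolynomial.rename (Fin.castSucc : Fin n → Fin (n + 1)) :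
      MvPolynomial (Fin n) K →ₐ[K] MvPolynomial (Fin (n + 1)) K).toRingHom = Polynomial.C := by
  apply MvPolynomial.ringHom_ext
  · intro a
    simp [tau_C]
  · intro i
    simp [tau_castSucc]

theorem tau_comp_tauInv : (tau K n).comp (tauInv K n) = RingHom.id _ := by
  apply Polynomial.ringHom_ext
  · intro a
    have h := DFunLike.congr_fun (tau_comp_rename K n) a
    rw [RingHom.comp_apply, tauInv, Polynomial.coe_eval₂RingHom, Polynomial.eval₂_C]
    exact h
  · simp [tauInv, tau_last]

theorem tauInv_comp_tau : (tauInv K n).comp (tau K n) = RingHom.id _ := by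
  apply MvPolynomial.ringHom_ext
  · intro a
    simp [tau_C, tauInv]
  · intro i
    refine Fin.lastCases ?_ (fun j => ?_) i
    · simp [tau_last, tauInv]
    · simp [tau_castSucc, tauInv]

end ring

section sch

variable (K : Type u) [Field K] (n : ℕ)

/-- `Spec K[x_0, …, x_(n-1)][X] ⟶ Spec K[x_0, …, x_n]` -/
noncomputable abbrev phi : Spec (CommRingCat.of (MvPolynomial (Fin n) K)[X]) ⟶
    Spec (CommRingCat.of (MvPolynomial (Fin (n + 1)) K)) :=
  Spec.map (CommRingCat.ofHom (tau K n))

instance isIso_phi : IsIso (phi K n) := by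
  refine ⟨Spec.map (CommRingCat.ofHom (tauInv K n)), ?_, ?_⟩
  · rw [← Spec.map_comp, ← CommRingCat.ofHom_comp, tau_comp_tauInv]
    exact Spec.map_id _
  · rw [← Spec.map_comp, ← CommRingCat.ofHom_comp, tauInv_comp_tau]
    exact Spec.map_id _

/-- the product of the coordinates `π_n` -/
noncomputable abbrev prodMap : Spec (CommRingCat.of (MvPolynomial (Fin n) K)) ⟶
    Spec (CommRingCat.of K[X]) :=
  Spec.map (CommRingCat.ofHom (Polynomial.aeval (∏ i : Fin n, MvPolynomial.X i : MvPolynomial (Fin n) K)).toRingHom)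

theorem phi_prn : phi K n ≫ prn K n = pr (MvPolynomial (Fin n) K) := by
  rw [← Spec.map_comp, ← CommRingCat.ofHom_comp, tau_comp_rename]

theorem phi_prodMap : phi K n ≫ prodMap K (n + 1) =
    piK K (C (∏ i : Fin n, MvPolynomial.X i : MvPolynomial (Fin n) K) * X) := by
  rw [← Spec.map_comp, ← CommRingCat.ofHom_comp]
  congr 2
  apply Polynomial.ringHom_ext
  · intro a
    have h' : (algebraMap K (MvPolynomial (Fin n) K)[X]) a = Polynomial.C (MvPolynomial.C a) := rfl
    simp [h', tau_C]
  · simp only [RingHom.comp_apply, AlgHom.toRingHom_eq_coe, RingHom.coe_coe, aeval_X]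
    rw [Fin.prod_univ_castSucc, map_mul, map_prod, tau_last]
    simp only [tau_castSucc]
    rw [map_prod]

variable (M : Type) [AddCommGroup M] {q : ℕ} (hq : 2 ≤ q)

include hq in
theorem pull_RR : Nonempty ((EtCoh.pull (phi K n)).obj (RR q K M (n + 1)) ≅ nx q (RR q K M n)) :=
  ⟨(ASC.asNpull (tau K n) (MvPolynomial.X (Fin.last n)) X (tau_last K n) hq).app
      ((EtCoh.pull (prn K n)).obj (RR q K M n)) ≪≫
    (asN q (X : (MvPolynomial (Fin n) K)[X])).mapIso
      ((EtpbcB.BCCalc.pullComp (prn K n) (phi K n)).app (RR q K M n) ≪≫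
        (EtpbcB.BCCalc.pullCongr (phi_prn K n)).app (RR q K M n))⟩

end sch

end Groth.Agent.Sga4h.H182.MvTau
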