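import Groth.Agent.Sga4h.H182.AbRs
import Groth.Agent.Sga4h.H182.Geo
import Groth.Agent.Sga4h.H929.ASC
import Groth.Agent.S0127
import Mathlib.RingTheory.FiniteType

/-!
# One step of the recursion

From `R π_! F` on `A¹` to `R π'_! (N_X pr^* F)`, `π' = u X`.
-/

set_option autoImplicit false
universe u

open CategoryTheory CategoryTheory.Limits AlgebraicGeometry Opposite Polynomial
open scoped LaurentPolynomial

namespace Groth.Agent.Sga4h.H182.Step

open Groth.Agent.Sga4h.H929 Groth.Agent.Sga4h.H929.NDef Groth.Agent.Sga4h.H182.AbRs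
  Groth.Agent.Sga4h.H182.Geo Groth.Agent.EtpbcB

/-- `N_X (pr^* F)` on `Spec R[X]` -/
noncomputable abbrev nx (q : ℕ) {R : Type u} [CommRing R] (F : EtCoh.Ab (Spec (CommRingCat.of R))) :
    EtCoh.Ab (Spec (CommRingCat.of R[X])) :=
  (asN q (X : R[X])).obj ((EtCoh.pull (pr R)).obj F)

/-- vanishing on lines -/
def VanLine (q N : ℕ) (R : Type u) [CommRing R] : Prop :=
  ∀ (F : EtCoh.Ab (Spec (CommRingCat.of R))), EtPBC.IsConstructible F → EtCoh.KilledBy N F →
    ∀ i, RsZero (pr R) (nx q F) i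

section ft

instance locallyOfFiniteType_pr (R : Type u) [CommRing R] : LocallyOfFiniteType (pr R) := by
  refine (HasRingHomProperty.Spec_iff (P := @LocallyOfFiniteType)).2 ?_
  change RingHom.FiniteType (algebraMap R R[X])
  exact (RingHom.finiteType_algebraMap).2 inferInstance

variable (K : Type u) [Field K] {R : Type u} [CommRing R] [Algebra K R] (u : R)

theorem locallyOfFiniteType_piK [Algebra.FiniteType K R] : LocallyOfFiniteType (piK K u) := by
  refine (HasRingHomProperty.Spec_iff (P := @LocallyOfFiniteType)).2 ?_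
  have h : RingHom.FiniteType ((Polynomial.aeval (R := K) u).toRingHom.comp (Polynomial.C : K →+* K[X])) := by
    have h1 : ((Polynomial.aeval (R := K) u).toRingHom.comp (Polynomial.C : K →+* K[X])) = algebraMap K R := by
      ext a
      simp
    rw [h1]
    exact (RingHom.finiteType_algebraMap).2 inferInstance
  exact RingHom.FiniteType.of_comp_finiteType h

theorem locallyOfFiniteType_piV [LocallyOfFiniteType (piK K u)] : LocallyOfFiniteType (piV K u) :=
  MorphismProperty.of_isPullback (isPullback_V K u) inferInstance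

theorem locallyOfFiniteType_wU [LocallyOfFiniteType (piK K u)] : LocallyOfFiniteType (wU K u) := by
  have := locallyOfFiniteType_piV K u
  exact MorphismProperty.of_isPullback (isPullback_U K u) inferInstance

theorem finiteType_laurent : Algebra.FiniteType K K[T;T⁻¹] :=
  inferInstanceAs (Algebra.FiniteType K (AddMonoidAlgebra K ℤ))

instance locallyOfFiniteType_pra : LocallyOfFiniteType (pra K) := by
  have h : LocallyOfFiniteType (Spec.map (CommRingCat.ofHom (LaurentPolynomial.C : K →+* K[T;T⁻¹]))) := by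
    refine (HasRingHomProperty.Spec_iff (P := @LocallyOfFiniteType)).2 ?_
    have := finiteType_laurent K
    exact (RingHom.finiteType_algebraMap (A := K) (B := K[T;T⁻¹])).2 inferInstance
  exact MorphismProperty.of_isPullback
    (Etdl.H161.PolySquare.isPullback_line (LaurentPolynomial.C : K →+* K[T;T⁻¹])).flip h

end ft

section pulls

variable {R : Type u} [CommRing R] (u : R) {q : ℕ} (hq : 2 ≤ q)

include hq in
theorem pull_jU_nx (F : EtCoh.Ab (Spec (CommRingCat.of R))) :
    Nonempty ((EtCoh.pull (jU u)).obj (nx q F) ≅ (asN q (jr u X)).obj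
      ((EtCoh.pull (pr (Localization.Away u))).obj ((EtCoh.pull (iotaV u)).obj F))) :=
  ⟨(ASC.asNpull (jr u) X (jr u X) rfl hq).app ((EtCoh.pull (pr R)).obj F) ≪≫
    (asN q (jr u X)).mapIso ((NPull.kap (w_pr u).symm).app F)⟩

include hq in
theorem pull_bX_nx (F : EtCoh.Ab (Spec (CommRingCat.of R))) :
    Nonempty ((EtCoh.pull (bX u)).obj (nx q F) ≅ nx q ((EtCoh.pull (b0 u)).obj F)) :=
  ⟨(ASC.asNpull (Polynomial.mapRingHom (Ideal.Quotient.mk (Ideal.span {u}))) X X (by simp) hq).app
    ((EtCoh.pull (pr R)).obj F) ≪≫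
    (asN q (X : (R ⧸ Ideal.span {u})[X])).mapIso ((NPull.kap (w_bpr u).symm).app F)⟩

end pulls

section step

variable {K : Type u} [Field K] {R : Type u} [CommRing R] [Algebra K R] (u : R)
  {q N : ℕ} (hq : 2 ≤ q) (hqK : (q : K) = 0) (hN : 0 < N)

include hqK in
theorem q_zero (A : Type u) [CommRing A] (f : K →+* A) : (q : A) = 0 := by
  rw [← map_natCast f, hqK, map_zero]

include hq hqK hN in
/-- the open part -/
theorem rs_U [LocallyOfFiniteType (piK K u)] {F : EtCoh.Ab (Spec (CommRingCat.of R))}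
    (hF : EtCoh.KilledBy N F) {a : ℕ} {G : EtCoh.Ab (Spec (CommRingCat.of K[X]))}
    (h : RsIs (piK K u) F a G) :
    RsIs (wU K u) ((asN q (jr u X)).obj
      ((EtCoh.pull (pr (Localization.Away u))).obj ((EtCoh.pull (iotaV u)).obj F))) a
      (MM q ((EtCoh.pull (ι K)).obj G)) := by
  have i1 := locallyOfFiniteType_piV K u
  have hF1 := TorsionBasic.killedBy_map (EtCoh.pull (iotaV u)) N _ hF
  have h1 := RsIs.baseChange hN hF (isPullback_V K u) h
  have h2 := RsIs.baseChange hN hF1 (isPullback_U K u) h1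
  have fe := ASC.fe_asc (aox K) hq (q_zero hqK _ (algebraMap K (K[T;T⁻¹])[X]))
  have := fe.fin
  have := fe.et
  have := fe.surj
  exact RsIs.N (ASC.isPullback_asc (Polynomial.mapRingHom (psi K u)) (aox K) (jr u X)
    (mapRingHom_aox K u)).flip h2

include hq hqK hN in
theorem rs_U_zero [LocallyOfFiniteType (piK K u)] {F : EtCoh.Ab (Spec (CommRingCat.of R))}
    (hF : EtCoh.KilledBy N F) {a : ℕ} (h : RsZero (piK K u) F a) :
    RsZero (wU K u) ((asN q (jr u X)).obj
      ((EtCoh.pull (pr (Localization.Away u))).obj ((EtCoh.pull (iotaV u)).obj F))) a := by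
  obtain ⟨Z0, hz⟩ : ∃ Z0 : EtCoh.Ab (Spec (CommRingCat.of K[X])), IsZero Z0 := HasZeroObject.zero
  exact (rs_U u hq hqK hN hF (h.is hz)).zero (Functor.map_isZero _ (Functor.map_isZero _
    (Functor.map_isZero _ hz)))

include hq hN in
/-- the open part is enough -/
theorem of_open [Algebra.FiniteType K R] (hV : VanLine q N (R ⧸ Ideal.span {u}))
    {F : EtCoh.Ab (Spec (CommRingCat.of R))} (hc : EtPBC.IsConstructible F)
    (hF : EtCoh.KilledBy N F) {m : ℕ} {H : EtCoh.Ab (Spec (CommRingCat.of K[X]))}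
    (h : RsIs (wU K u ≫ pra K) ((asN q (jr u X)).obj
      ((EtCoh.pull (pr (Localization.Away u))).obj ((EtCoh.pull (iotaV u)).obj F))) m H) :
    RsIs (piK K (C u * X)) (nx q F) m H := by
  have i2 : LocallyOfFiniteType (piK K (C u * X : R[X])) := by
    have : Algebra.FiniteType K R[X] := Algebra.FiniteType.trans (S := R) inferInstance inferInstance
    exact locallyOfFiniteType_piK K _
  have i3 : LocallyOfFiniteType (piK K (0 : R ⧸ Ideal.span {u})) := by
    have : Algebra.FiniteType K (R ⧸ Ideal.span {u}) :=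
      Algebra.FiniteType.of_surjective (Ideal.Quotient.mkₐ K (Ideal.span {u})) (Ideal.Quotient.mkₐ_surjective _ _)
    exact locallyOfFiniteType_piK K _
  have hF1 := TorsionBasic.killedBy_map (EtCoh.pull (pr R)) N _ hF
  have hF2 : EtCoh.KilledBy N (nx q F) := NSplit.killedBy_N hF1
  obtain ⟨e1⟩ := pull_jU_nx u hq F
  refine excision (jU u) (bX u) (piK K (C u * X)) hN hF2 (range_jU u) (fun i => ?_) ?_
  · obtain ⟨e2⟩ := pull_bX_nx u hq F
    rw [w_b]
    have hF0 := TorsionBasic.killedBy_map (EtCoh.pull (b0 u)) N _ hF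
    have hF3 := TorsionBasic.killedBy_map (EtCoh.pull (pr (R ⧸ Ideal.span {u}))) N _ hF0
    exact (leray_all (pr (R ⧸ Ideal.span {u})) (piK K (0 : R ⧸ Ideal.span {u})) hN
      (NSplit.killedBy_N hF3) (hV _ (S0127.result (b0 u) F hc) hF0) i).congr e2.symm
  · rw [w_U]
    exact h.congr e1.symm (Iso.refl _)

include hq hN in
/-- the open part is enough -/
theorem of_open_zero [Algebra.FiniteType K R] (hV : VanLine q N (R ⧸ Ideal.span {u}))
    {F : EtCoh.Ab (Spec (CommRingCat.of R))} (hc : EtPBC.IsConstructible F)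
    (hF : EtCoh.KilledBy N F) {m : ℕ}
    (h : RsZero (wU K u ≫ pra K) ((asN q (jr u X)).obj
      ((EtCoh.pull (pr (Localization.Away u))).obj ((EtCoh.pull (iotaV u)).obj F))) m) :
    RsZero (piK K (C u * X)) (nx q F) m := by
  obtain ⟨Z0, hz⟩ : ∃ Z0 : EtCoh.Ab (Spec (CommRingCat.of K[X])), IsZero Z0 := HasZeroObject.zero
  exact (of_open u hq hN hV hc hF (h.is hz)).zero hz

include hq hqK hN in
/-- One step of the recursion. -/
theorem step [Algebra.FiniteType K R] (hV : VanLine q N (R ⧸ Ideal.span {u}))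
    {F : EtCoh.Ab (Spec (CommRingCat.of R))} (hc : EtPBC.IsConstructible F)
    (hF : EtCoh.KilledBy N F) (a : ℕ) {G : EtCoh.Ab (Spec (CommRingCat.of K[X]))}
    (h0 : ∀ m, m ≠ a → RsZero (piK K u) F m) (h : RsIs (piK K u) F a G)
    {b : ℕ} {H : EtCoh.Ab (Spec (CommRingCat.of K[X]))}
    (hz : ∀ m, m ≠ b → RsZero (pra K) (MM q ((EtCoh.pull (ι K)).obj G)) m)
    (hH : RsIs (pra K) (MM q ((EtCoh.pull (ι K)).obj G)) b H) :
    (∀ m, m ≠ b + a → RsZero (piK K (C u * X)) (nx q F) m) ∧
      RsIs (piK K (C u * X)) (nx q F) (b + a) H := by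
  have i1 := locallyOfFiniteType_piK K u
  have i2 := locallyOfFiniteType_wU K u
  have hF1 := TorsionBasic.killedBy_map (EtCoh.pull (iotaV u)) N _ hF
  have hF2 := TorsionBasic.killedBy_map (EtCoh.pull (pr (Localization.Away u))) N _ hF1
  have hF3 : EtCoh.KilledBy N ((asN q (jr u X)).obj
      ((EtCoh.pull (pr (Localization.Away u))).obj ((EtCoh.pull (iotaV u)).obj F))) :=
    NSplit.killedBy_N hF2
  have k0 : ∀ m, m ≠ a → RsZero (wU K u) _ m := fun m hm => rs_U_zero u hq hqK hN hF (h0 m hm)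
  have ka := rs_U u hq hqK hN hF h
  refine ⟨fun m hm => of_open_zero u hq hN hV hc hF ?_, of_open u hq hN hV hc hF ?_⟩
  · rcases lt_or_ge m a with hlt | hge
    · exact leray_below (wU K u) (pra K) hN hF3 a (fun i hi => k0 i hi.ne) m hlt
    · obtain ⟨c, rfl⟩ := Nat.exists_eq_add_of_le' hge
      exact leray_zero (wU K u) (pra K) hN hF3 a k0 ka (hz c (fun hcb => hm (by rw [hcb])))
  · exact leray (wU K u) (pra K) hN hF3 a k0 ka hH

end step

end Groth.Agent.Sga4h.H182.Step
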